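import Cfsg.Agent.SpTwoGen.Elements

/-!
The symplectic groups and their central quotients are generated by two elements.
-/

set_option autoImplicit false

namespace Cfsg.Agent.SpTwoGen

open Cfsg.Agent.Classical Cfsg.Agent.ClassicalMax Cfsg.Agent.SpRegGen

/-- the factors of a commuting product of coprime orders lie in every subgroup containing the product -/
theorem factors_mem {G : Type*} [Group G] (M : Subgroup G) {x y : G} {m l : ℕ} (hxy : Commute x y)
    (hx : x ^ m = 1) (hy : y ^ l = 1) (hco : Nat.Coprime m l) (h : x * y ∈ M) : x ∈ M ∧ y ∈ M := by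
  have hxl : x ^ l ∈ M := by
    have := pow_mem h l
    rwa [hxy.mul_pow, hy, mul_one] at this
  have hxM : x ∈ M := by
    have h1 : x = x ^ ((m : ℤ) * m.gcdA l + (l : ℤ) * m.gcdB l) := by
      rw [← Nat.gcd_eq_gcd_ab, hco.gcd_eq_one, Nat.cast_one, zpow_one]
    rw [h1, zpow_add, zpow_mul, zpow_mul, zpow_natCast, zpow_natCast, hx, one_zpow, one_mul]
    exact zpow_mem hxl _
  exact ⟨hxM, by simpa using mul_mem (inv_mem hxM) h⟩

variable {F : Type*} [Field F]

theorem coprime_char [Fintype F] (p : ℕ) [CharP F p] : Nat.Coprime (Fintype.card F - 1) p := by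
  obtain ⟨a, hp, hcard⟩ := FiniteField.card F p
  refine (hp.coprime_iff_not_dvd.2 fun hdvd => ?_).symm
  have h1 : p ∣ Fintype.card F := hcard ▸ dvd_pow_self p a.ne_zero
  have h2 := Nat.dvd_sub h1 hdvd
  have h3 := Fintype.card_pos (α := F)
  rw [show Fintype.card F - (Fintype.card F - 1) = 1 by omega] at h2
  exact hp.one_lt.ne' (Nat.dvd_one.1 h2)

/-- an additive subgroup containing `1` and closed under squares of a generator is everything -/
theorem eq_top_of_sq [Fintype F] (S : AddSubgroup F) (h1 : (1 : F) ∈ S) (γ : Fˣ)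
    (hγ : ∀ x : Fˣ, x ∈ Subgroup.zpowers γ) (hm : ∀ x ∈ S, (γ : F) ^ 2 * x ∈ S) (x : F) : x ∈ S := by
  have hsq : ∀ y : F, y ^ 2 ∈ S := by
    intro y
    rcases eq_or_ne y 0 with rfl | hy
    · rw [zero_pow (by omega)]; exact S.zero_mem
    obtain ⟨k, hk⟩ := (mem_powers_iff_mem_zpowers (x := γ)).2 (hγ (Units.mk0 y hy))
    have hk' : (γ : F) ^ k = y := by
      have := congrArg (fun z : Fˣ => (z : F)) hk
      simpa only [Units.val_pow_eq_pow_val, Units.val_mk0] using this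
    rw [← hk']
    clear hk hk' hy
    induction k with
    | zero => simpa using h1
    | succ k ih => rw [show ((γ : F) ^ (k + 1)) ^ 2 = (γ : F) ^ 2 * ((γ : F) ^ k) ^ 2 by ring]; exact hm _ ih
  by_cases h2 : (2 : F) = 0
  · have := CharTwo.of_one_ne_zero_of_two_eq_zero (R := F) one_ne_zero h2
    obtain ⟨y, rfl⟩ := FiniteField.isSquare_of_char_two (ringChar.eq F 2) x
    rw [← pow_two]; exact hsq y
  · have : x = ((x + 1) / 2) ^ 2 - ((x - 1) / 2) ^ 2 := by field_simp; ring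
    rw [this]; exact S.sub_mem (hsq _) (hsq _)

/-- a non-empty set closed under sums and under a generator of the multiplicative group is everything -/
theorem eq_top_of_mul [Fintype F] (S : AddSubgroup F) {t : F} (ht : t ∈ S) (ht0 : t ≠ 0) (γ : Fˣ)
    (hγ : ∀ x : Fˣ, x ∈ Subgroup.zpowers γ) (hm : ∀ x ∈ S, (γ : F) * x ∈ S) (x : F) : x ∈ S := by
  rcases eq_or_ne x 0 with rfl | hx
  · exact S.zero_mem
  obtain ⟨k, hk⟩ := (mem_powers_iff_mem_zpowers (x := γ)).2 (hγ (Units.mk0 (x / t) (div_ne_zero hx ht0)))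
  have hk' : (γ : F) ^ k = x / t := by
    have := congrArg (fun z : Fˣ => (z : F)) hk
    simpa only [Units.val_pow_eq_pow_val, Units.val_mk0] using this
  have key : ∀ j : ℕ, (γ : F) ^ j * t ∈ S := fun j => by
    induction j with
    | zero => simpa using ht
    | succ j ih => rw [pow_succ', mul_assoc]; exact hm _ ih
  have := key k
  rwa [hk', div_mul_cancel₀ _ ht0] at this

variable {n : ℕ}

local notation "e" => ee n F
local notation "f" => ff n F
local notation "BB" => sympB n F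
local notation "hA" => sympB_isAlt (F := F) (m := n)
local notation "w" => ww n F

/-- the parameters of the transvections of `M` with centre `a` -/
def trSet {V : Type*} [AddCommGroup V] [Module F V] {B : LinearMap.BilinForm F V} (hB : B.IsAlt)
    (M : Subgroup (V ≃ₗ[F] V)) (a : V) : AddSubgroup F where
  carrier := {c | TR hB M a c}
  zero_mem' := TR.zero a
  add_mem' := TR.add
  neg_mem' := TR.neg

theorem tv_commute {V : Type*} [AddCommGroup V] [Module F V] {B : LinearMap.BilinForm F V} (hB : B.IsAlt)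
    {g : V ≃ₗ[F] V} (hg : g ∈ Alt.isoGroup B) {a : V} (ha : g a = a) (c : F) : Commute g (Alt.tv hB a c) := by
  have := Alt.conj_tv hB hg a c
  rw [ha] at this
  exact mul_inv_eq_iff_eq_mul.1 this

theorem sr_commute {V : Type*} [AddCommGroup V] [Module F V] {B : LinearMap.BilinForm F V} (hB : B.IsAlt)
    {g : V ≃ₗ[F] V} (hg : g ∈ Alt.isoGroup B) {a b : V} (h : B a b = 0) (s : Fˣ) (ha : g a = (s : F) • a)
    (hb : g b = ((s⁻¹ : Fˣ) : F) • b) (r : F) : Commute g (sr hB a b h r) := by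
  have h1 := conj_sr hB hg h r
  have h2 : sr hB (g a) (g b) ((hg a b).trans h) r = sr hB a b h r := by
    refine LinearEquiv.ext fun x => ?_
    simp only [sr_apply, ha, hb, map_smul, smul_eq_mul, smul_smul]
    rw [show r * ((s : F) * B x a) * ((s⁻¹ : Fˣ) : F) = r * B x a by simp [mul_comm, mul_left_comm],
      show r * (((s⁻¹ : Fˣ) : F) * B x b) * (s : F) = r * B x b by simp [mul_comm, mul_left_comm]]
  rw [h2] at h1
  exact mul_inv_eq_iff_eq_mul.1 h1

/-- the element carrying a short and a long root -/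
noncomputable def pel {V : Type*} [AddCommGroup V] [Module F V] {B : LinearMap.BilinForm F V} (hB : B.IsAlt)
    (a b : V) (h : B a b = 0) (r c : F) : V ≃ₗ[F] V := sr hB a b h r * Alt.tv hB a c

theorem pel_mul {V : Type*} [AddCommGroup V] [Module F V] {B : LinearMap.BilinForm F V} (hB : B.IsAlt)
    {a b : V} (h : B a b = 0) (r c r' c' : F) :
    pel hB a b h r c * pel hB a b h r' c' = pel hB a b h (r + r') (c + c') := by
  refine LinearEquiv.ext fun x => ?_
  have h' : B b a = 0 := by rw [Alt.neg' hB a b, h, neg_zero]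
  simp [pel, sr_apply, Alt.tv_apply, LinearEquiv.mul_apply, h, h', hB a, hB b]
  module

theorem pel_pow_char {V : Type*} [AddCommGroup V] [Module F V] {B : LinearMap.BilinForm F V} (hB : B.IsAlt)
    {a b : V} (h : B a b = 0) (r c : F) (p : ℕ) [CharP F p] : pel hB a b h r c ^ p = 1 := by
  have h0 : pel hB a b h 0 0 = 1 := LinearEquiv.ext fun x => by
    simp [pel, sr_apply, Alt.tv_apply, LinearEquiv.mul_apply]
  have key : ∀ j : ℕ, pel hB a b h r c ^ j = pel hB a b h ((j : F) * r) ((j : F) * c) := fun j => by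
    induction j with
    | zero => simp [h0]
    | succ j ih => rw [pow_succ, ih, pel_mul]; congr 1 <;> push_cast <;> ring
  rw [key, CharP.cast_eq_zero, zero_mul, zero_mul, h0]

variable [Fintype F]

theorem case_large (hn : 3 ≤ n) (hq : 3 ≤ Fintype.card F) :
    ∃ a b : Alt.isoGroup BB, ∀ M : Subgroup ((Fin n ⊕ Fin n → F) ≃ₗ[F] (Fin n ⊕ Fin n → F)),
      a.1 ∈ M → b.1 ∈ M → Alt.isoGroup BB ≤ M := by
  classical
  obtain ⟨γ, hγ⟩ := IsCyclic.exists_generator (α := Fˣ)
  obtain ⟨p, hp⟩ := CharP.exists F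
  have hγ1 : (γ : F) ≠ 1 := fun h => by
    have h' : γ = 1 := Units.ext h
    have : Fintype.card Fˣ ≤ 1 := Fintype.card_le_one_iff.2 fun x y => by
      obtain ⟨i, rfl⟩ := hγ x
      obtain ⟨j, rfl⟩ := hγ y
      simp [h']
    rw [Fintype.card_units] at this
    omega
  set d : ℕ → Fˣ := fun k => if k = 0 then γ else 1 with hd
  set h0 := tor n d with hh0
  have h12 : BB (e 1) (f 2) = 0 := by simp [Bef, show 1 < n by omega]
  set X := pel hA (e 1) (f 2) h12 1 1 with hX
  refine ⟨⟨h0 * X, mul_mem (tor_mem d) (mul_mem (sr_mem_isoGroup hA h12 1) (Alt.tv_mem_isoGroup _ _ _))⟩,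
    ⟨w, ww_mem⟩, fun M ha hw => ?_⟩
  have hh0e : ∀ k, h0 (e k) = (d k : F) • e k := tor_e d
  have hh0f : ∀ k, h0 (f k) = ((d k)⁻¹ : Fˣ).val • f k := tor_f d
  have hcomm : Commute h0 X :=
    (sr_commute hA (tor_mem d) h12 1 (by rw [hh0e]; simp [hd]) (by rw [hh0f]; simp [hd]) 1).mul_right
      (tv_commute hA (tor_mem d) (by rw [hh0e]; simp [hd]) 1)
  obtain ⟨hh, hXM⟩ := factors_mem M hcomm (tor_pow_card d) (pel_pow_char hA h12 1 1 p) (coprime_char p) ha
  set h1 := w * h0 * w⁻¹ with hh1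
  set h2 := w * h1 * w⁻¹ with hh2
  have h1M : h1 ∈ M := mul_mem (mul_mem hw hh) (inv_mem hw)
  have h1I : h1 ∈ Alt.isoGroup BB := mul_mem (mul_mem ww_mem (tor_mem d)) (inv_mem ww_mem)
  have h2M : h2 ∈ M := mul_mem (mul_mem hw h1M) (inv_mem hw)
  have h2I : h2 ∈ Alt.isoGroup BB := mul_mem (mul_mem ww_mem h1I) (inv_mem ww_mem)
  have we : ∀ k, k + 1 < n → w⁻¹ (e (k + 1)) = e k := fun k hk => winv_eq (w_e k hk)
  have wf : ∀ k, k + 1 < n → w⁻¹ (f (k + 1)) = f k := fun k hk => winv_eq (w_f k hk)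
  have h1e : h1 (e 1) = (γ : F) • e 1 := by
    show w (h0 (w⁻¹ (e 1))) = _
    rw [we 0 (by omega), hh0e, map_smul, w_e 0 (by omega)]; simp [hd]
  have h1f : h1 (f 2) = f 2 := by
    show w (h0 (w⁻¹ (f 2))) = _
    rw [wf 1 (by omega), hh0f, map_smul, w_f 1 (by omega)]; simp [hd]
  have h2e : h2 (e 1) = e 1 := by
    show w (w (h0 (w⁻¹ (w⁻¹ (e 1))))) = _
    obtain ⟨m, rfl⟩ : ∃ m, n = m + 1 := ⟨n - 1, by omega⟩
    rw [we 0 (by omega), winv_eq (x := -ff (m + 1) F m) (y := ee (m + 1) F 0)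
      (by rw [map_neg, w_f_last m rfl, neg_neg]), map_neg, hh0f, map_neg, map_smul, w_f_last m rfl]
    simp [hd, show m ≠ 0 by omega, w_e 0 (show 0 + 1 < m + 1 by omega)]
  have h2f : h2 (f 2) = ((γ⁻¹ : Fˣ) : F) • f 2 := by
    show w (w (h0 (w⁻¹ (w⁻¹ (f 2))))) = _
    rw [wf 1 (by omega), wf 0 (by omega), hh0f, map_smul, map_smul, w_f 0 (by omega), w_f 1 (by omega)]
    simp [hd]
  have hP : pel hA (e 1) (f 2) h12 ((γ⁻¹ : Fˣ) : F) 1 ∈ M := by
    have := mul_mem (mul_mem h2M hXM) (inv_mem h2M)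
    convert this using 1
    rw [hX, show h2 * pel hA (e 1) (f 2) h12 1 1 * h2⁻¹ =
      (h2 * sr hA (e 1) (f 2) h12 1 * h2⁻¹) * (h2 * Alt.tv hA (e 1) 1 * h2⁻¹) by rw [pel]; group,
      conj_sr hA h2I, Alt.conj_tv hA h2I]
    refine LinearEquiv.ext fun x => ?_
    simp [pel, h2e, h2f, sr_apply, LinearEquiv.mul_apply, Alt.tv_apply, smul_smul, mul_comm, mul_left_comm]
  have hS : SR hA M (e 1) (f 2) (((γ⁻¹ : Fˣ) : F) - 1) := by
    refine ⟨h12, ?_⟩
    have := mul_mem hP (inv_mem hXM)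
    convert this using 1
    rw [eq_mul_inv_iff_mul_eq, hX,
      show sr hA (e 1) (f 2) h12 (((γ⁻¹ : Fˣ) : F) - 1) = pel hA (e 1) (f 2) h12 (((γ⁻¹ : Fˣ) : F) - 1) 0 by
        rw [pel, Alt.tv_zero, mul_one], pel_mul, sub_add_cancel, zero_add]
  have hr0 : ((γ⁻¹ : Fˣ) : F) - 1 ≠ 0 := by
    rw [sub_ne_zero, Units.val_inv_eq_inv_val, ne_eq, inv_eq_one]; exact hγ1
  let S : AddSubgroup F :=
    { carrier := {r | SR hA M (e 1) (f 2) r}
      zero_mem' := SR.zero h12
      add_mem' := SR.add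
      neg_mem' := SR.neg }
  have hall : ∀ r, SR hA M (e 1) (f 2) r := eq_top_of_mul S hS hr0 γ hγ fun r hr => by
    have := (hr : SR hA M (e 1) (f 2) r).map h1M h1I
    rw [h1e, h1f] at this
    exact ((this.symm).smul_right (by simp [Bfe, show 1 < n by omega])).symm
  have hT : TR hA M (e 1) 1 := by
    obtain ⟨_, h⟩ := hall 1
    have := mul_mem (inv_mem h) hXM
    rwa [hX, pel, ← mul_assoc, inv_mul_cancel, one_mul] at this
  have hc : ∀ c, TR hA M (e 1) c := eq_top_of_sq (trSet hA M (e 1)) hT γ hγ fun c hc => by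
    have := (hc : TR hA M (e 1) c).map h1M h1I
    rw [h1e] at this
    unfold TR at this
    rw [Alt.tv_smul] at this
    exact this
  refine top_of_parts (by omega) hw (fun c => ?_) one_ne_zero ?_
  · have := (hc c).map (inv_mem hw) (inv_mem ww_mem)
    rwa [we 0 (by omega)] at this
  · have := (hall 1).map (inv_mem hw) (inv_mem ww_mem)
    rwa [we 0 (by omega), wf 1 (by omega)] at this

theorem case_two_large (hn : n = 2) (hq : 4 ≤ Fintype.card F) :
    ∃ a b : Alt.isoGroup BB, ∀ M : Subgroup ((Fin n ⊕ Fin n → F) ≃ₗ[F] (Fin n ⊕ Fin n → F)),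
      a.1 ∈ M → b.1 ∈ M → Alt.isoGroup BB ≤ M := by
  classical
  obtain ⟨γ, hγ⟩ := IsCyclic.exists_generator (α := Fˣ)
  obtain ⟨p, hp⟩ := CharP.exists F
  have hγ2 : (γ : F) ^ 2 ≠ 1 := fun h => by
    have h' : γ ^ 2 = 1 := Units.ext (by simpa using h)
    have := orderOf_le_of_pow_eq_one (by omega) h'
    rw [orderOf_eq_card_of_forall_mem_zpowers hγ, Nat.card_eq_fintype_card, Fintype.card_units] at this
    omega
  set h := tor n (fun _ => γ) with hh
  have h01 : BB (e 0) (f 1) = 0 := by simp [Bef, show 0 < n by omega]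
  set X := pel hA (e 0) (f 1) h01 1 0 with hX
  set T := Alt.tv hA (e 1) 1 with hT
  refine ⟨⟨h * X, mul_mem (tor_mem _) (mul_mem (sr_mem_isoGroup hA h01 1) (Alt.tv_mem_isoGroup _ _ _))⟩,
    ⟨w * T, mul_mem ww_mem (Alt.tv_mem_isoGroup _ _ _)⟩, fun M ha hb => ?_⟩
  have hcomm : Commute h X := by
    rw [hX, pel, Alt.tv_zero, mul_one]
    exact sr_commute hA (tor_mem _) h01 γ (tor_e _ _) (tor_f _ _) 1
  obtain ⟨hM, hXM⟩ := factors_mem M hcomm (tor_pow_card _) (pel_pow_char hA h01 1 0 p) (coprime_char p) ha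
  have hI : h ∈ Alt.isoGroup BB := tor_mem _
  have hS : SR hA M (e 0) (f 1) 1 := ⟨h01, by rwa [hX, pel, Alt.tv_zero, mul_one] at hXM⟩
  set d' : ℕ → Fˣ := fun k => if k = 0 then γ⁻¹ else γ with hd'
  have hconj : w * h * w⁻¹ = tor n d' := by
    refine mul_inv_eq_iff_eq_mul.2 (ext_basis (fun k hk => ?_) fun k hk => ?_) <;>
      simp only [LinearEquiv.mul_apply] <;>
      rcases (show k = 0 ∨ k = 1 by omega) with rfl | rfl
    · rw [hh, tor_e, map_smul, w_e 0 (by omega), tor_e]; simp [hd']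
    · rw [hh, tor_e, map_smul, w_e_last 1 (by omega), tor_f]; simp [hd']
    · rw [hh, tor_f, map_smul, w_f 0 (by omega), tor_f]; simp [hd']
    · rw [hh, tor_f, map_smul, w_f_last 1 (by omega), map_neg, tor_e]; simp [hd']
  have hthm : T * h * T⁻¹ = Alt.tv hA (e 1) (1 - (γ : F) ^ 2) * h := by
    have h1 := Alt.conj_tv hA hI (e 1) (-1)
    rw [tor_e, Alt.tv_smul, ← Alt.tv_inv] at h1
    rw [hT, show Alt.tv hA (e 1) 1 * h * (Alt.tv hA (e 1) 1)⁻¹ =
      Alt.tv hA (e 1) 1 * (h * (Alt.tv hA (e 1) 1)⁻¹ * h⁻¹) * h by group, h1, Alt.tv_add]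
    ring_nf
  set c' : F := 1 - (γ : F) ^ 2 with hc'
  have hbhb : (w * T) * h * (w * T)⁻¹ * h = Alt.tv hA (f 0) c' * (tor n d' * h) := by
    have hw1 : w (e 1) = f 0 := w_e_last 1 (by omega)
    rw [show (w * T) * h * (w * T)⁻¹ * h = w * (T * h * T⁻¹) * w⁻¹ * h by group, hthm,
      show w * (Alt.tv hA (e 1) c' * h) * w⁻¹ * h = (w * Alt.tv hA (e 1) c' * w⁻¹) * ((w * h * w⁻¹) * h) by group,
      Alt.conj_tv hA ww_mem, hw1, hconj]
  have hfix : tor n (d' * fun _ => γ) (f 0) = f 0 := by rw [tor_f]; simp [hd']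
  have hprod : Alt.tv hA (f 0) c' * tor n (d' * fun _ => γ) ∈ M := by
    rw [← tor_mul, ← hbhb]
    exact mul_mem (mul_mem (mul_mem hb hM) (inv_mem hb)) hM
  have htp : Alt.tv hA (f 0) c' ^ p = 1 := by
    have key : ∀ j : ℕ, Alt.tv hA (f 0) c' ^ j = Alt.tv hA (f 0) ((j : F) * c') := fun j => by
      induction j with
      | zero => simp [Alt.tv_zero]
      | succ j ih => rw [pow_succ, ih, Alt.tv_add]; congr 1; push_cast; ring
    rw [key, CharP.cast_eq_zero, zero_mul, Alt.tv_zero]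
  have hTf : TR hA M (f 0) c' :=
    (factors_mem M (tv_commute hA (tor_mem _) hfix c').symm htp (tor_pow_card _) (coprime_char p).symm hprod).1
  have hTe : TR hA M (e 1) c' := by
    have := hTf.map (inv_mem hb) (inv_mem (mul_mem ww_mem (Alt.tv_mem_isoGroup hA (e 1) 1)))
    refine this.congr ?_ rfl
    show T⁻¹ (w⁻¹ (f 0)) = _
    rw [winv_eq (w_e_last 1 (by omega)), hT, Alt.tv_inv, Alt.tv_apply, Bee, mul_zero, zero_smul, add_zero]
  have hc0 : c' ≠ 0 := sub_ne_zero.2 (Ne.symm hγ2)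
  let S : AddSubgroup F := (trSet hA M (e 1)).comap (AddMonoidHom.mulLeft c')
  have hS1 : (1 : F) ∈ S := by
    show TR hA M (e 1) (c' * 1)
    rwa [mul_one]
  have hall : ∀ c, TR hA M (e 1) c := fun c => by
    have h1 : c / c' ∈ S := eq_top_of_sq S hS1 γ hγ (fun x hx => by
      have h0 : TR hA M (e 1) (c' * x) := hx
      have h2 := h0.map hM hI
      rw [tor_e] at h2
      unfold TR at h2
      rw [Alt.tv_smul, mul_left_comm] at h2
      exact h2) _
    have h2 : TR hA M (e 1) (c' * (c / c')) := h1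
    rwa [mul_div_cancel₀ _ hc0] at h2
  have hw : w ∈ M := by
    have h1 : T ∈ M := hall 1
    have : (w * T) * T⁻¹ ∈ M := mul_mem hb (inv_mem h1)
    rwa [mul_assoc, mul_inv_cancel, mul_one] at this
  refine top_of_parts (by omega) hw (fun c => ?_) one_ne_zero hS
  have := (hall c).map (inv_mem hw) (inv_mem ww_mem)
  rwa [winv_eq (w_e 0 (show 0 + 1 < n by omega))] at this

theorem case_two_three (hn : n = 2) (hq : Fintype.card F = 3) :
    ∃ a b : Alt.isoGroup BB, ∀ M : Subgroup ((Fin n ⊕ Fin n → F) ≃ₗ[F] (Fin n ⊕ Fin n → F)),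
      a.1 ∈ M → b.1 ∈ M → Alt.isoGroup BB ≤ M := by
  have h01 : BB (e 0) (f 1) = 0 := by simp [Bef, show 0 < n by omega]
  refine ⟨⟨_, sr_mem_isoGroup hA h01 1⟩, ⟨w, ww_mem⟩, fun M ha hw => ?_⟩
  have hS : SR hA M (e 0) (f 1) 1 := ⟨h01, ha⟩
  have hS' : SR hA M (e 0) (e 1) 1 := by
    have := hS.map hw ww_mem
    rw [w_e 0 (by omega), w_f_last 1 (by omega)] at this
    exact this.neg_right.symm
  obtain ⟨_, hP⟩ := hS
  obtain ⟨h0e, hQ⟩ := hS'
  have hsum : BB (e 0) (f 1 + e 1) = 0 := by rw [map_add, h01, h0e, add_zero]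
  have hsum' : BB (e 0) (e 1 + f 1) = 0 := by rw [add_comm]; exact hsum
  have e1 := sr_mul_sr («hA» := sympB_isAlt) h01 h0e hsum 1
  have e2 := sr_mul_sr («hA» := sympB_isAlt) h0e h01 hsum' 1
  have e3 : sr hA (e 0) (e 1 + f 1) hsum' 1 = sr hA (e 0) (f 1 + e 1) hsum 1 := by
    congr 1; exact add_comm _ _
  have hT : TR hA M (e 0) (-2) := by
    have := mul_mem (inv_mem (mul_mem hQ hP)) (mul_mem hP hQ)
    rw [e1, e2, e3] at this
    unfold TR
    convert this using 1
    rw [show (sr hA (e 0) (f 1 + e 1) hsum 1 * Alt.tv hA (e 0) (1 ^ 2 * BB (f 1) (e 1)))⁻¹ *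
      (sr hA (e 0) (f 1 + e 1) hsum 1 * Alt.tv hA (e 0) (1 ^ 2 * BB (e 1) (f 1))) =
      (Alt.tv hA (e 0) (1 ^ 2 * BB (f 1) (e 1)))⁻¹ * Alt.tv hA (e 0) (1 ^ 2 * BB (e 1) (f 1)) by group,
      Alt.tv_inv, Alt.tv_add]
    simp [Bef, Bfe, show 1 < n by omega]
    congr 1; ring
  refine top_of_parts (by omega) hw (fun c => ?_) one_ne_zero ⟨h01, ha⟩
  have hprime : (Nat.card F).Prime := by rw [Nat.card_eq_fintype_card, hq]; decide
  have : Fact (Nat.card F).Prime := ⟨hprime⟩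
  rcases (trSet hA M (e 0)).eq_bot_or_eq_top_of_prime_card with h | h
  · exfalso
    have h2 : (-2 : F) = 0 := by
      have : (-2 : F) ∈ trSet hA M (e 0) := hT
      rwa [h, AddSubgroup.mem_bot] at this
    obtain ⟨p, hp⟩ := CharP.exists F
    obtain ⟨a, hpp, hcard⟩ := FiniteField.card F p
    have hdvd : p ∣ 2 := (CharP.cast_eq_zero_iff F p 2).1 (by simpa using h2)
    have hp2 := (Nat.prime_dvd_prime_iff_eq hpp Nat.prime_two).1 hdvd
    have : 2 ∣ Fintype.card F := by rw [hcard, hp2]; exact dvd_pow_self 2 a.ne_zero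
    omega
  · exact (h ▸ AddSubgroup.mem_top c : c ∈ trSet hA M (e 0))

theorem case_binary (hn : 3 ≤ n) (hq : Fintype.card F = 2) :
    ∃ a b : Alt.isoGroup BB, ∀ M : Subgroup ((Fin n ⊕ Fin n → F) ≃ₗ[F] (Fin n ⊕ Fin n → F)),
      a.1 ∈ M → b.1 ∈ M → Alt.isoGroup BB ≤ M := by
  obtain ⟨p, hp⟩ := CharP.exists F
  obtain ⟨a, hpp, hcard⟩ := FiniteField.card F p
  have hp2 : p = 2 := by
    have h : p ∣ 2 := by rw [← hq, hcard]; exact dvd_pow_self p a.ne_zero
    exact (Nat.prime_dvd_prime_iff_eq hpp Nat.prime_two).1 h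
  subst hp2
  have h2 : (2 : F) = 0 := by exact_mod_cast CharP.cast_eq_zero F 2
  have hneg : (-1 : F) = 1 := by rw [neg_eq_iff_add_eq_zero, ← h2]; norm_num
  have h01 : BB (e 0) (f 1) = 0 := by simp [Bef, show 0 < n by omega]
  set c := Alt.tv hA (e 2) 1 * Alt.tv hA (f 2) 1 with hc
  have hcI : c ∈ Alt.isoGroup BB := mul_mem (Alt.tv_mem_isoGroup _ _ _) (Alt.tv_mem_isoGroup _ _ _)
  have ce : ∀ k, k < n → k ≠ 2 → c (e k) = e k := fun k hk hk2 => by
    simp [hc, LinearEquiv.mul_apply, Alt.tv_apply, Bee, Bef, hk, hk2]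
  have cf : ∀ k, k < n → k ≠ 2 → c (f k) = f k := fun k hk hk2 => by
    simp [hc, LinearEquiv.mul_apply, Alt.tv_apply, Bff, Bfe, show 2 < n by omega, hk2]
  have ce2 : c (e 2) = f 2 := by
    simp [hc, LinearEquiv.mul_apply, Alt.tv_apply, Bee, Bef, Bfe, Bff, show 2 < n by omega, hneg]
    rw [add_right_comm, ← two_smul F (e 2), h2, zero_smul, zero_add]
  have cf2 : c (f 2) = e 2 + f 2 := by
    simp [hc, LinearEquiv.mul_apply, Alt.tv_apply, Bfe, Bff, show 2 < n by omega, add_comm]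
  have hc3 : c ^ 3 = 1 := by
    refine ext_basis (fun k hk => ?_) fun k hk => ?_ <;>
      simp only [pow_succ, pow_zero, one_mul, LinearEquiv.mul_apply] <;> rcases eq_or_ne k 2 with rfl | hk2
    · rw [ce2, cf2, map_add, ce2, cf2, add_comm (e 2) _, ← add_assoc, ← two_smul F (f 2), h2, zero_smul, zero_add]
      rfl
    · rw [ce k hk hk2, ce k hk hk2, ce k hk hk2]; rfl
    · rw [cf2, map_add, ce2, cf2, add_comm (e 2) _, ← add_assoc, ← two_smul F (f 2), h2, zero_smul, zero_add, ce2]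
      rfl
    · rw [cf k hk hk2, cf k hk hk2, cf k hk hk2]; rfl
  set X := pel hA (e 0) (f 1) h01 1 0 with hX
  refine ⟨⟨X * c, mul_mem (mul_mem (sr_mem_isoGroup hA h01 1) (Alt.tv_mem_isoGroup _ _ _)) hcI⟩,
    ⟨w, ww_mem⟩, fun M ha hw => ?_⟩
  have hcomm : Commute X c := by
    rw [hX, pel, Alt.tv_zero, mul_one]
    exact (sr_commute hA hcI h01 1 (by rw [ce 0 (by omega) (by omega)]; simp)
      (by rw [cf 1 (by omega) (by omega)]; simp) 1).symm
  obtain ⟨hXM, hcM⟩ := factors_mem M hcomm (pel_pow_char hA h01 1 0 2) hc3 (by decide) ha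
  have hS : SR hA M (e 0) (f 1) 1 := ⟨h01, by rwa [hX, pel, Alt.tv_zero, mul_one] at hXM⟩
  have hS2 := sr_power hw hS 1 (by omega)
  have hA1 : SR hA M (e 1) (e 2 + f 2) 1 := by
    have := hS2.map hcM hcI
    rwa [ce 1 (by omega) (by omega), cf2] at this
  have hA2 : SR hA M (e 1) (e 2) 1 := by
    have := hA1.map hcM hcI
    rw [ce 1 (by omega) (by omega), map_add, ce2, cf2, add_comm (e 2) _, ← add_assoc, ← two_smul F (f 2), h2,
      zero_smul, zero_add] at this
    exact this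
  have hT : TR hA M (e 1) 1 := by
    obtain ⟨p1, m1⟩ := hA1
    obtain ⟨p2, m2⟩ := hA2
    obtain ⟨p3, m3⟩ := hS2
    have := sr_mul_sr («hA» := sympB_isAlt) p2 p3 p1 1
    unfold TR
    have h' := mul_mem (inv_mem m1) (mul_mem m2 m3)
    rw [this, ← mul_assoc, inv_mul_cancel, one_mul] at h'
    convert h' using 2
    simp [Bfe, show 2 < n by omega]
  refine top_of_parts (by omega) hw (fun r => ?_) one_ne_zero hS
  have hr : r = 0 ∨ r = 1 := by
    classical
    have hu : ({0, 1} : Finset F) = Finset.univ := Finset.eq_univ_of_card _ (by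
      rw [hq, Finset.card_pair zero_ne_one])
    have := Finset.mem_univ r
    rw [← hu] at this
    simpa using this
  rcases hr with rfl | rfl
  · exact TR.zero _
  · have := hT.map (inv_mem hw) (inv_mem ww_mem)
    rwa [winv_eq (w_e 0 (show 0 + 1 < n by omega))] at this

/-- the symplectic group is two-generated -/
theorem symplectic_two_generated (hn : 2 ≤ n) (hF : n = 2 → 2 < Fintype.card F) :
    ∃ a b : Matrix.symplecticGroup (Fin n) F,
      Subgroup.closure ({a, b} : Set (Matrix.symplecticGroup (Fin n) F)) = ⊤ := by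
  have hq := Fintype.one_lt_card (α := F)
  obtain ⟨a, b, h⟩ : ∃ a b : Alt.isoGroup BB,
      ∀ M : Subgroup ((Fin n ⊕ Fin n → F) ≃ₗ[F] (Fin n ⊕ Fin n → F)),
        a.1 ∈ M → b.1 ∈ M → Alt.isoGroup BB ≤ M := by
    rcases Nat.lt_or_ge n 3 with h3 | h3
    · have h2 : n = 2 := by omega
      rcases Nat.lt_or_ge (Fintype.card F) 4 with h4 | h4
      · exact case_two_three h2 (by have := hF h2; omega)
      · exact case_two_large h2 h4
    · rcases Nat.lt_or_ge (Fintype.card F) 3 with h4 | h4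
      · exact case_binary h3 (by omega)
      · exact case_large h3 h4
  set ψ := spEquiv n F
  refine ⟨ψ.symm a, ψ.symm b, ?_⟩
  set H := Subgroup.closure ({ψ.symm a, ψ.symm b} : Set (Matrix.symplecticGroup (Fin n) F)) with hH
  have hmem : ∀ g : Alt.isoGroup BB, ψ.symm g ∈ H →
      g.1 ∈ H.map ((Alt.isoGroup BB).subtype.comp ψ.toMonoidHom) := fun g hg => ⟨_, hg, by simp⟩
  have htop := h _ (hmem a (Subgroup.subset_closure (by simp))) (hmem b (Subgroup.subset_closure (by simp)))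
  refine eq_top_iff.2 fun A _ => ?_
  obtain ⟨B', hB', e'⟩ := htop (ψ A).2
  exact ψ.injective (Subtype.ext e') ▸ hB'

end Cfsg.Agent.SpTwoGen
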