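import Cfsg.Agent.SpRegGen.Centres
import Cfsg.Agent.SpRegGen.Rank2

/-!
A cyclic monomial isometry, the diagonal torus, and the criterion for generating the symplectic group.
-/

set_option autoImplicit false

namespace Cfsg.Agent.SpTwoGen

open Cfsg.Agent.Classical Cfsg.Agent.ClassicalMax Cfsg.Agent.SpRegGen

variable {F : Type*} [Field F] {n : ℕ}

local notation "e" => ee n F
local notation "f" => ff n F
local notation "BB" => sympB n F
local notation "hA" => sympB_isAlt (F := F) (m := n)

/-- the map turning the first hyperbolic plane by a quarter -/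
noncomputable def twist (n : ℕ) (F : Type*) [Field F] : (Fin n ⊕ Fin n → F) ≃ₗ[F] (Fin n ⊕ Fin n → F) where
  toFun x := Sum.elim (fun i => if i.val = 0 then -x (Sum.inr i) else x (Sum.inl i))
    (fun i => if i.val = 0 then x (Sum.inl i) else x (Sum.inr i))
  map_add' x y := by
    funext i
    cases i with
    | inl i => by_cases h : i.val = 0 <;> simp [h] <;> ring
    | inr i => by_cases h : i.val = 0 <;> simp [h]
  map_smul' c x := by
    funext i
    cases i with
    | inl i => by_cases h : i.val = 0 <;> simp [h]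
    | inr i => by_cases h : i.val = 0 <;> simp [h]
  invFun x := Sum.elim (fun i => if i.val = 0 then x (Sum.inr i) else x (Sum.inl i))
    (fun i => if i.val = 0 then -x (Sum.inl i) else x (Sum.inr i))
  left_inv x := by
    funext i
    cases i with
    | inl i => by_cases h : i.val = 0 <;> simp [h]
    | inr i => by_cases h : i.val = 0 <;> simp [h]
  right_inv x := by
    funext i
    cases i with
    | inl i => by_cases h : i.val = 0 <;> simp [h]
    | inr i => by_cases h : i.val = 0 <;> simp [h]

theorem twist_mem : twist n F ∈ Alt.isoGroup BB := fun x y => by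
  rw [sympB_eq_sum, sympB_eq_sum]
  refine Finset.sum_congr rfl fun i _ => ?_
  by_cases h : i.val = 0
  · simp [twist, h]; ring
  · simp [twist, h]

/-- the cyclic shift of the hyperbolic planes -/
noncomputable def shift (n : ℕ) (F : Type*) [Field F] : (Fin n ⊕ Fin n → F) ≃ₗ[F] (Fin n ⊕ Fin n → F) :=
  LinearEquiv.funCongrLeft F F (Equiv.sumCongr (finRotate n).symm (finRotate n).symm)

theorem shift_apply (x : (Fin n ⊕ Fin n → F)) (i : Fin n ⊕ Fin n) :
    shift n F x i = x (Sum.map (finRotate n).symm (finRotate n).symm i) := rfl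

theorem shift_mem : shift n F ∈ Alt.isoGroup BB := fun x y => by
  rw [sympB_eq_sum, sympB_eq_sum]
  simp only [shift_apply, Sum.map_inl, Sum.map_inr]
  exact Equiv.sum_comp (finRotate n).symm
    (fun i => x (Sum.inr i) * y (Sum.inl i) - x (Sum.inl i) * y (Sum.inr i))

theorem rotate_symm_val (j : Fin n) (k : ℕ) :
    ((finRotate n).symm j).val = k ↔ j.val = (if k + 1 = n then 0 else k + 1) ∧ k < n := by
  obtain ⟨i, rfl⟩ := (finRotate n).surjective j
  rw [Equiv.symm_apply_apply]
  obtain ⟨m, rfl⟩ : ∃ m, n = m + 1 := ⟨n - 1, by have := i.isLt; omega⟩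
  have hv := coe_finRotate i
  have := i.isLt
  by_cases hi : i = Fin.last m
  · rw [hi, finRotate_last]
    simp only [Fin.val_last, Fin.val_zero]
    split_ifs with hk
    · exact ⟨fun h => ⟨rfl, by omega⟩, fun _ => by omega⟩
    · exact ⟨fun h => absurd h (by omega), fun h => h.1.elim⟩
  · rw [if_neg hi] at hv
    rw [hv]
    have hne : i.val ≠ m := fun h => hi (Fin.ext h)
    split_ifs with hk
    · exact ⟨fun h => absurd h (by omega), fun h => h.1.elim⟩
    · exact ⟨fun h => ⟨by omega, by omega⟩, fun h => by omega⟩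

theorem shift_e (k : ℕ) (hk : k < n) : shift n F (e k) = e (if k + 1 = n then 0 else k + 1) := by
  funext i
  cases i with
  | inl i =>
    rw [shift_apply]
    simp only [ee, Sum.map_inl, Sum.elim_inl]
    exact if_congr ((rotate_symm_val i k).trans (and_iff_left hk)) rfl rfl
  | inr i => rw [shift_apply]; rfl

theorem shift_f (k : ℕ) (hk : k < n) : shift n F (f k) = f (if k + 1 = n then 0 else k + 1) := by
  funext i
  cases i with
  | inl i => rw [shift_apply]; rfl
  | inr i =>
    rw [shift_apply]
    simp only [ff, Sum.map_inr, Sum.elim_inr]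
    exact if_congr ((rotate_symm_val i k).trans (and_iff_left hk)) rfl rfl

theorem twist_e_zero : twist n F (e 0) = f 0 := by
  funext i
  cases i with
  | inl i => by_cases h : i.val = 0 <;> simp [twist, ee, ff, h]
  | inr i => by_cases h : i.val = 0 <;> simp [twist, ee, ff, h]

theorem twist_f_zero : twist n F (f 0) = -e 0 := by
  funext i
  cases i with
  | inl i => by_cases h : i.val = 0 <;> simp [twist, ee, ff, h]
  | inr i => by_cases h : i.val = 0 <;> simp [twist, ee, ff, h]

theorem twist_e (k : ℕ) (hk : k ≠ 0) : twist n F (e k) = e k := by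
  funext i
  cases i with
  | inl i => by_cases h : i.val = 0 <;> simp [twist, ee, h, Ne.symm hk]
  | inr i => by_cases h : i.val = 0 <;> simp [twist, ee, h, Ne.symm hk]

theorem twist_f (k : ℕ) (hk : k ≠ 0) : twist n F (f k) = f k := by
  funext i
  cases i with
  | inl i => by_cases h : i.val = 0 <;> simp [twist, ff, h, Ne.symm hk]
  | inr i => by_cases h : i.val = 0 <;> simp [twist, ff, h, Ne.symm hk]

/-- the monomial element of order `4 n` up to sign -/
noncomputable def ww (n : ℕ) (F : Type*) [Field F] : (Fin n ⊕ Fin n → F) ≃ₗ[F] (Fin n ⊕ Fin n → F) :=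
  twist n F * shift n F

local notation "w" => ww n F

theorem ww_mem : w ∈ Alt.isoGroup BB := mul_mem twist_mem shift_mem

theorem w_e (k : ℕ) (hk : k + 1 < n) : w (e k) = e (k + 1) := by
  show twist n F (shift n F _) = _
  rw [shift_e k (by omega), if_neg (by omega), twist_e _ (by omega)]

theorem w_f (k : ℕ) (hk : k + 1 < n) : w (f k) = f (k + 1) := by
  show twist n F (shift n F _) = _
  rw [shift_f k (by omega), if_neg (by omega), twist_f _ (by omega)]

theorem w_e_last (k : ℕ) (hk : k + 1 = n) : w (e k) = f 0 := by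
  show twist n F (shift n F _) = _
  rw [shift_e k (by omega), if_pos hk, twist_e_zero]

theorem w_f_last (k : ℕ) (hk : k + 1 = n) : w (f k) = -e 0 := by
  show twist n F (shift n F _) = _
  rw [shift_f k (by omega), if_pos hk, twist_f_zero]

theorem winv_eq {x y : (Fin n ⊕ Fin n → F)} (h : w x = y) : w⁻¹ y = x := by
  rw [← h]; exact (ww n F).symm_apply_apply x

/-- an element of the diagonal torus -/
noncomputable def tor (n : ℕ) {F : Type*} [Field F] (d : ℕ → Fˣ) :
    (Fin n ⊕ Fin n → F) ≃ₗ[F] (Fin n ⊕ Fin n → F) where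
  toFun x := Sum.elim (fun i => (d i.val : F) * x (Sum.inl i)) (fun i => ((d i.val)⁻¹ : Fˣ) * x (Sum.inr i))
  map_add' x y := by funext i; cases i <;> simp [mul_add]
  map_smul' c x := by funext i; cases i <;> simp [mul_left_comm]
  invFun x := Sum.elim (fun i => ((d i.val)⁻¹ : Fˣ) * x (Sum.inl i)) (fun i => (d i.val : F) * x (Sum.inr i))
  left_inv x := by funext i; cases i <;> simp [← mul_assoc]
  right_inv x := by funext i; cases i <;> simp [← mul_assoc]

theorem tor_mem (d : ℕ → Fˣ) : tor n d ∈ Alt.isoGroup BB := fun x y => by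
  rw [sympB_eq_sum, sympB_eq_sum]
  refine Finset.sum_congr rfl fun i _ => ?_
  simp [tor]
  field_simp

theorem tor_e (d : ℕ → Fˣ) (k : ℕ) : tor n d (e k) = (d k : F) • e k := by
  funext i
  cases i with
  | inl i => by_cases h : i.val = k <;> simp [tor, ee, h]
  | inr i => simp [tor, ee]

theorem tor_f (d : ℕ → Fˣ) (k : ℕ) : tor n d (f k) = ((d k)⁻¹ : Fˣ).val • f k := by
  funext i
  cases i with
  | inl i => simp [tor, ff]
  | inr i => by_cases h : i.val = k <;> simp [tor, ff, h]

theorem tor_mul (d d' : ℕ → Fˣ) : tor n d * tor n d' = tor n (d * d') := by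
  refine LinearEquiv.ext fun x => funext fun i => ?_
  cases i <;> simp [tor, LinearEquiv.mul_apply, mul_assoc, mul_left_comm]

theorem tor_one : tor n (1 : ℕ → Fˣ) = 1 := by
  refine LinearEquiv.ext fun x => funext fun i => ?_
  cases i <;> simp [tor]

theorem tor_pow (d : ℕ → Fˣ) (j : ℕ) : tor n d ^ j = tor n (d ^ j) := by
  induction j with
  | zero => rw [pow_zero, pow_zero, tor_one]
  | succ j ih => rw [pow_succ, pow_succ, ih, tor_mul]

theorem tor_pow_card [Fintype F] (d : ℕ → Fˣ) : tor n d ^ (Fintype.card F - 1) = 1 := by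
  classical
  rw [tor_pow, show d ^ (Fintype.card F - 1) = 1 from funext fun i => by
    rw [Pi.pow_apply, ← Fintype.card_units]; exact pow_card_eq_one, tor_one]

theorem ext_basis {g g' : (Fin n ⊕ Fin n → F) ≃ₗ[F] (Fin n ⊕ Fin n → F)} (he : ∀ k, k < n → g (e k) = g' (e k))
    (hf : ∀ k, k < n → g (f k) = g' (f k)) : g = g' := by
  refine LinearEquiv.ext fun x => ?_
  rw [decomp x, map_sum, map_sum]
  refine Finset.sum_congr rfl fun i _ => ?_
  rw [map_add, map_add, map_smul, map_smul, map_smul, map_smul, he _ i.isLt, hf _ i.isLt]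

variable {M : Subgroup ((Fin n ⊕ Fin n → F) ≃ₗ[F] (Fin n ⊕ Fin n → F))}

theorem sr_power (hw : w ∈ M) {r : F} (h : SR hA M (e 0) (f 1) r) :
    ∀ k, k + 1 < n → SR hA M (e k) (f (k + 1)) r
  | 0, _ => h
  | k + 1, hk => by
    have := (sr_power hw h k (by omega)).map hw ww_mem
    rwa [w_e k (by omega), w_f (k + 1) hk] at this

/-- the criterion: the cyclic element, one full transvection group and one short root element generate -/
theorem top_of_parts (hn : 2 ≤ n) (hw : w ∈ M) (h0 : e 0 ∈ centres hA M) {r : F} (hr : r ≠ 0)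
    (hs : SR hA M (e 0) (f 1) r) : Alt.isoGroup BB ≤ M := by
  have map' : ∀ {x : (Fin n ⊕ Fin n → F)}, x ∈ centres hA M → w x ∈ centres hA M := fun hx => map_mem_centres hx hw ww_mem
  have hE : ∀ k, k < n → e k ∈ centres hA M := by
    intro k
    induction k with
    | zero => exact fun _ => h0
    | succ k ih => intro hk; rw [← w_e k hk]; exact map' (ih (by omega))
  have hF : ∀ k, k < n → f k ∈ centres hA M := by
    intro k
    induction k with
    | zero =>
      intro _
      rw [← w_e_last (n - 1) (by omega)]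
      exact map' (hE _ (by omega))
    | succ k ih => intro hk; rw [← w_f k hk]; exact map' (ih (by omega))
  refine centres_mono_top sympB_nondeg (all_centres fun k hk => ⟨hE k hk, hF k hk, fun hk1 => ?_⟩)
  obtain ⟨hp, hm⟩ := sr_power hw hs k hk1
  have h1 := map_mem_centres (hE _ hk1) hm (sr_mem_isoGroup hA hp r)
  rw [sr_apply, Bee, Bef _ _ hk1, if_pos rfl, mul_zero, zero_smul, add_zero] at h1
  have h2 := add_smul_mem_centres h1 (hF k hk) (by simp [Bef, hk, hk1, hr]) 1
  have h3 := add_smul_mem_centres h2 (hE k hk) (by simp [Bee, Bfe, hk]) (1 + r)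
  have h4 := add_smul_mem_centres h3 (hF k hk) (by simp [Bef, Bff, hk, hk1]) (-1)
  rwa [show e (k + 1) + (r * -1) • e k + (1 : F) • f k + (1 + r) • e k + (-1 : F) • f k = e k + e (k + 1) by
    module] at h4

end Cfsg.Agent.SpTwoGen
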